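import Groth.Agent.InvExt.Nbhd
import Mathlib.AlgebraicGeometry.Morphisms.Affine

/-!
# Retrocompact opens in dimension at most one are affine over the scheme

If the local rings of `X` are Noetherian of dimension at most one, the inclusion of a retrocompact
open is an affine morphism.
-/

set_option autoImplicit false
set_option linter.style.haveILetI false

universe u

open CategoryTheory AlgebraicGeometry Opposite TopologicalSpace

noncomputable section

namespace Groth.Agent.AffOpen1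

open Groth.Agent.InvExt Groth.Agent.QCoh

variable {X : Scheme.{u}} (U : X.Opens)

/-- Near any point, the open is a basic open of an affine neighbourhood. -/
theorem exists_basicOpen_nhd [QuasiCompact U.ι] (x : X)
    (hnoe : IsNoetherianRing (X.presheaf.stalk x)) (hdim : ringKrullDim (X.presheaf.stalk x) ≤ 1) :
    ∃ W : X.Opens, x ∈ W ∧ IsAffineOpen W ∧ ∃ f : Γ(X, W), X.basicOpen f = U ⊓ W := by
  classical
  by_cases hx : x ∈ U
  · obtain ⟨W, hW, hxW, hWU⟩ := exists_isAffineOpen_mem_and_subset (U := U) (x := x) hx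
    refine ⟨W, hxW, hW, 1, ?_⟩
    rw [Scheme.basicOpen_of_isUnit _ isUnit_one, inf_eq_right.mpr (show W ≤ U from hWU)]
  obtain ⟨V, hV, hxV, -⟩ := exists_isAffineOpen_mem_and_subset (U := (⊤ : X.Opens)) (x := x) trivial
  let A := Γ(X, V)
  letI := TopCat.Presheaf.algebra_section_stalk X.presheaf (⟨x, hxV⟩ : V)
  let qq := hV.primeIdealOf ⟨x, hxV⟩
  let q := qq.asIdeal
  haveI hloc : IsLocalization.AtPrime (X.presheaf.stalk x) q := hV.isLocalization_stalk ⟨x, hxV⟩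
  haveI : IsNoetherianRing (Localization.AtPrime q) :=
    isNoetherianRing_of_ringEquiv (X.presheaf.stalk x)
      (IsLocalization.algEquiv q.primeCompl (X.presheaf.stalk x) (Localization.AtPrime q)).toRingEquiv
  have hq : q.height ≤ 1 := by
    rw [IsLocalization.AtPrime.ringKrullDim_eq_height q (X.presheaf.stalk x)] at hdim
    exact_mod_cast hdim
  let pt : PrimeSpectrum A → X := fun p => hV.fromSpec p
  have hptq : pt qq = x := hV.fromSpec_primeIdealOf ⟨x, hxV⟩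
  have hbo : ∀ (p : PrimeSpectrum A) (a : A), pt p ∈ X.basicOpen a ↔ a ∉ p.asIdeal := fun p a => by
    change p ∈ hV.fromSpec ⁻¹ᵁ X.basicOpen a ↔ _
    rw [hV.fromSpec_preimage_basicOpen]
    exact Iff.rfl
  obtain ⟨B, hB⟩ := exists_finset_basicOpen (U := U) hV
  obtain ⟨S, hS, hS'⟩ := exists_below q hq
  have hBq : ∀ b ∈ B, b ∈ q := fun b hb => by
    by_contra h
    exact hx (hptq ▸ (hB qq).mpr ⟨b, hb, h⟩)
  let S₀ := S.filter fun p => ∀ b ∈ B, b ∈ p
  let S₁ := S.filter fun p => ¬ ∀ b ∈ B, b ∈ p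
  -- a function vanishing at `x` and at the generalisations outside, not at those inside
  obtain ⟨f, hf, hf₁⟩ : ∃ f ∈ q ⊓ S₀.inf id, ∀ p ∈ S₁, f ∉ p := by
    by_contra hcon
    have hsub : ((q ⊓ S₀.inf id : Ideal A) : Set A) ⊆ ⋃ p ∈ (S₁ : Set (Ideal A)), (p : Set A) :=
      fun r hr => by
        by_contra hr'
        simp only [Set.mem_iUnion, not_exists] at hr'
        exact hcon ⟨r, hr, fun p hp h => hr' p hp h⟩
    obtain ⟨p, hp, hle⟩ := (Ideal.subset_union_prime (R := A) (s := S₁) (f := fun p => p) ⊥ ⊥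
      (fun p hp _ _ => (hS p (Finset.mem_filter.mp hp).1).1)).mp hsub
    obtain ⟨hpS, hpB⟩ := Finset.mem_filter.mp hp
    have hp' := (hS p hpS).1
    rcases hp'.inf_le.mp hle with h | h
    · exact (hS p hpS).2.2.1 (le_antisymm (hS p hpS).2.1 h)
    · obtain ⟨p₀, hp₀, hle₀⟩ := hp'.inf_le'.mp h
      obtain ⟨hp₀S, hp₀B⟩ := Finset.mem_filter.mp hp₀
      have : p₀ = p := (hS p hpS).2.2.2 p₀ (hS p₀ hp₀S).1 hle₀
      exact hpB (this ▸ hp₀B)
  have hfq : f ∈ q := hf.1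
  obtain ⟨t₁, ht₁, ht₁'⟩ := exists_agree q {f} B fun p hp hpq hex => by
    obtain ⟨c, hc, hcp⟩ := hex
    rw [Finset.mem_singleton] at hc
    subst hc
    by_contra hno
    push Not at hno
    have hpS : p ∈ S := hS' p hp hpq fun h => hcp (h ▸ hfq)
    have hp0 : p ∈ S₀ := Finset.mem_filter.mpr ⟨hpS, hno⟩
    exact hcp ((Finset.inf_le hp0 : S₀.inf id ≤ p) hf.2)
  obtain ⟨t₂, ht₂, ht₂'⟩ := exists_agree q B {f} fun p hp hpq ⟨b, hb, hbp⟩ =>
    ⟨f, Finset.mem_singleton_self f, hf₁ p (Finset.mem_filter.mpr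
      ⟨hS' p hp hpq fun h => hbp (h ▸ hBq b hb), fun h => hbp (h b hb)⟩)⟩
  have hT : t₁ * t₂ ∉ q := show _ ∈ q.primeCompl from mul_mem ht₁ ht₂
  refine ⟨X.basicOpen (t₁ * t₂), hptq ▸ (hbo qq _).mpr hT, hV.basicOpen _,
    rres (X.basicOpen_le (t₁ * t₂)) f, ?_⟩
  rw [rres, X.basicOpen_res]
  ext z
  have key : ∀ hz : z ∈ X.basicOpen (t₁ * t₂), ∃ p, pt p = z ∧ t₁ ∉ p.asIdeal ∧ t₂ ∉ p.asIdeal := by
    intro hz
    let p := hV.primeIdealOf ⟨z, X.basicOpen_le _ hz⟩
    have hp : pt p = z := hV.fromSpec_primeIdealOf ⟨z, X.basicOpen_le _ hz⟩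
    have h1 := (hbo p _).mp (hp.symm ▸ hz)
    exact ⟨p, hp, fun h => h1 (Ideal.mul_mem_right _ _ h), fun h => h1 (Ideal.mul_mem_left _ _ h)⟩
  constructor
  · rintro ⟨hzT, hzf⟩
    obtain ⟨p, rfl, h1, -⟩ := key hzT
    exact ⟨(hB p).mpr (ht₁' _ p.2 h1 ⟨f, Finset.mem_singleton_self f, (hbo p f).mp hzf⟩), hzT⟩
  · rintro ⟨hzU, hzT⟩
    obtain ⟨p, rfl, -, h2⟩ := key hzT
    obtain ⟨c, hc, hcp⟩ := ht₂' _ p.2 h2 ((hB p).mp hzU)
    rw [Finset.mem_singleton] at hc
    exact ⟨hzT, (hbo p f).mpr (hc ▸ hcp)⟩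

/-- The inclusion of a retrocompact open is affine. -/
theorem isAffineHom_ι [QuasiCompact U.ι]
    (hX : ∀ x : X, IsNoetherianRing (X.presheaf.stalk x) ∧ ringKrullDim (X.presheaf.stalk x) ≤ 1) :
    IsAffineHom U.ι := by
  choose W hxW hW f hf using fun x : X => exists_basicOpen_nhd U x (hX x).1 (hX x).2
  refine isAffineHom_of_forall_exists_isAffineOpen U.ι fun x => ⟨W x, hxW x, hW x, ?_⟩
  refine (U.ι.isAffineOpen_iff_of_isOpenImmersion (U := U.ι ⁻¹ᵁ W x)).mp ?_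
  rw [Scheme.Hom.image_preimage_eq_opensRange_inf, Scheme.Opens.opensRange_ι, ← hf x]
  exact (hW x).basicOpen _

end Groth.Agent.AffOpen1

end
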